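import Cfsg.Agent.H475.EP.PhiU
import Cfsg.Agent.H156.SqBlk
import Cfsg.Agent.H892.EP.TM
import Cfsg.Agent.H892.EP.Good
import Cfsg.Agent.H53.HC.RgdLevi

/-!
`Good p r` of the Levi subgroup `M_J` of type `A_{k+1}` of a group with a Witt frame, from `Good p r SL_{k+2}(F)` (S4929, tasks
5308, 5309): any `(σ, ε)`-hermitian form, types `C` and `D`.
-/

set_option autoImplicit false
set_option linter.unusedSectionVars false

namespace Cfsg.Agent.H475.EP

open Matrix
open CoxeterSystem Cfsg.Agent.ChevalleyStructure.CoxeterGeom Cfsg.Agent.Tits.Roots Cfsg.Agent.Tits.Core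
  Cfsg.Agent.Nodes.Reps Cfsg.Agent.Nodes.BNOf Cfsg.Agent.Nodes.StabComb
  Cfsg.Agent.Nodes.RGDLib
open Cfsg.Agent.Nodes
open Cfsg.Agent.TitsThree Cfsg.Agent.TitsThree.Siegel Cfsg.Agent.TitsThree.WittFrame Cfsg.Agent.TitsThree.WittWeyl
  Cfsg.Agent.TitsThree.LineBorel
open Cfsg.Agent.Nodes.WittRoot (XG)
open Cfsg.Agent.H892.EP
open Cfsg.Agent.H53.HC (MJ)

variable {F : Type} [Field F] [Fintype F] {V : Type*} [AddCommGroup V] [Module F V] {H : HForm F V} {N k : ℕ}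
  {Fr : Frame H (Fin N)} {K : Type*} [Group K] [Finite K]

/-- the map `SL_{k+2}(F) → K` has a kernel of order prime to `p` -/
theorem ker_phi {I : Subgroup (V ≃ₗ[F] V)} (φ : ↥I →* K) (hX : ∀ a b t, Fr.X a b t ∈ I)
    (hker : ∀ (v : V) (g : ↥I), φ g = 1 → g.1 ∈ lineStab (F := F) v)
    {ι : Fin (k + 2) → Fin N} (hι : Function.Injective ι) {p : ℕ} [Fact p.Prime]
    (hc : ∀ c : F, c * H.σ c = 1 → c ^ p = 1 → c = 1) {A : SpecialLinearGroup (Fin (k + 2)) F}
    (h1 : φ (phiU Fr hι hX A) = 1) (hp : A ^ p = 1) : A = 1 := by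
  obtain ⟨c, hcA, hcs⟩ := scalar_of_lines Fr hι (by omega) (A : GL (Fin (k + 2)) F) (fun v => by
    have := hker v _ h1
    exact this)
  have hA : A.1 = c • (1 : Matrix (Fin (k + 2)) (Fin (k + 2)) F) := hcA
  have h2 : c ^ p = 1 := by
    have h3 : (A ^ p).1 = A.1 ^ p := Matrix.SpecialLinearGroup.coe_pow A p
    rw [hp, hA, smul_pow, one_pow] at h3
    have h4 := congrFun (congrFun h3 0) 0
    rw [Matrix.smul_apply, one_apply_eq, smul_eq_mul, mul_one] at h4
    have h5 : (1 : Matrix.SpecialLinearGroup (Fin (k + 2)) F).1 0 0 = 1 := by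
      change (1 : Matrix (Fin (k + 2)) (Fin (k + 2)) F) 0 0 = 1
      rw [one_apply_eq]
    exact h4.symm.trans h5
  have h3 := hc c hcs h2
  apply Subtype.ext
  rw [hA, h3, one_smul]
  rfl

variable {W : Type*} [Group W] {Mx : CoxeterMatrix (Fin N)} {cs : CoxeterSystem Mx W} {A : Fin N → Fin N → ℤ}
  {h : IsCartan Mx A} {rg : (Fin N → ℤ) → Subgroup (V ≃ₗ[F] V)}

/-- **The Levi subgroup of type `A`.** -/
theorem good_MJ {I : Subgroup (V ≃ₗ[F] V)} (φ : ↥I →* K) (hX : ∀ a b t, Fr.X a b t ∈ I)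
    (hker : ∀ (v : V) (g : ↥I), φ g = 1 → g.1 ∈ lineStab (F := F) v)
    {ι : Fin (k + 2) → Fin N} (hι : Function.Injective ι) {J : Set (Fin N)}
    (hJ1 : ∀ i j : Fin (k + 2), i ≠ j → ∃ r ∈ RootsJ cs h J, rg r = XG Fr (ι i, true) (ι j, false))
    (hJ2 : ∀ r ∈ PosJ cs h J, ∃ i j : Fin (k + 2), i < j ∧ rg r = XG Fr (ι i, true) (ι j, false) ∧
      rg (-r) = XG Fr (ι j, true) (ι i, false)) {p r : ℕ} [Fact p.Prime] [Fact r.Prime]
    (hc : ∀ c : F, c * H.σ c = 1 → c ^ p = 1 → c = 1)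
    (hg : Good p r (SpecialLinearGroup (Fin (k + 2)) F)) :
    Good p r ↥(MJ cs h (fun x => ((rg x).subgroupOf I).map φ) J) := by
  classical
  have hmem : ∀ A : SpecialLinearGroup (Fin (k + 2)) F,
      φ (phiU Fr hι hX A) ∈ MJ cs h (fun x => ((rg x).subgroupOf I).map φ) J := by
    intro A
    have h1 : (⊤ : Subgroup (SpecialLinearGroup (Fin (k + 2)) F)) ≤
        (MJ cs h (fun x => ((rg x).subgroupOf I).map φ) J).comap (φ.comp (phiU Fr hι hX)) := by
      rw [← Cfsg.Agent.LieClassical.SLGen.closure_transvections, Subgroup.closure_le]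
      rintro _ ⟨i, j, hij, c, rfl⟩
      obtain ⟨s, hs, e⟩ := hJ1 i j hij
      refine RGD.le_Sup (X := fun x => ((rg x).subgroupOf I).map φ) hs ?_
      refine ⟨⟨Fr.X (ι i, true) (ι j, false) c, hX _ _ _⟩, ?_, ?_⟩
      · rw [SetLike.mem_coe, Subgroup.mem_subgroupOf, e]
        exact ⟨c, rfl⟩
      · rw [MonoidHom.comp_apply, phiU_transvection]
    exact h1 (Subgroup.mem_top A)
  let f : SpecialLinearGroup (Fin (k + 2)) F →* ↥(MJ cs h (fun x => ((rg x).subgroupOf I).map φ) J) :=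
    (φ.comp (phiU Fr hι hX)).codRestrict _ hmem
  have hrange : MJ cs h (fun x => ((rg x).subgroupOf I).map φ) J ≤ (φ.comp (phiU Fr hι hX)).range := by
    refine RGD.Sup_le fun s hs => ?_
    have key : ∀ i j : Fin (k + 2), i ≠ j → ∀ s, rg s = XG Fr (ι i, true) (ι j, false) →
        ((rg s).subgroupOf I).map φ ≤ (φ.comp (phiU Fr hι hX)).range := by
      rintro i j hij s e _ ⟨y, hy, rfl⟩
      rw [SetLike.mem_coe, Subgroup.mem_subgroupOf, e] at hy
      obtain ⟨t, ht⟩ := hy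
      refine ⟨SpecialLinearGroup.transvection hij t, ?_⟩
      rw [MonoidHom.comp_apply, phiU_transvection]
      congr 1
      exact Subtype.ext ht.symm
    rcases hs.1.pos_or_neg with h0 | h0
    · obtain ⟨i, j, hij, e, -⟩ := hJ2 s ⟨hs.1, h0, hs.2⟩
      exact key i j hij.ne s e
    · have h1 : -s ∈ PosJ cs h J := ⟨hs.1.neg, by simpa using h0, fun l hl => by
        rw [Pi.neg_apply, hs.2 l hl, neg_zero]⟩
      obtain ⟨i, j, hij, -, e⟩ := hJ2 (-s) h1
      rw [_root_.neg_neg] at e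
      exact key j i hij.ne' s e
  have hf : Function.Surjective f := by
    rintro ⟨y, hy⟩
    obtain ⟨x, hx⟩ := hrange hy
    exact ⟨x, Subtype.ext hx⟩
  refine Good.quot f hf (fun hd => ?_) hg
  obtain ⟨x, hx⟩ := exists_prime_orderOf_dvd_card' p hd
  have h1 : φ (phiU Fr hι hX x.1) = 1 := congrArg Subtype.val ((MonoidHom.mem_ker).1 x.2)
  have h2 : (x.1 : SpecialLinearGroup (Fin (k + 2)) F) ^ p = 1 := by
    rw [← hx, ← Subgroup.coe_pow, pow_orderOf_eq_one]; rfl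
  have h3 := ker_phi φ hX hker hι hc h1 h2
  have h4 : x = 1 := Subtype.ext h3
  rw [h4, orderOf_one] at hx
  exact (Fact.out : p.Prime).one_lt.ne hx

end Cfsg.Agent.H475.EP
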