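import Cfsg.Agent.H475.EP.Frame
import Cfsg.Agent.H396.CommTab1
import Cfsg.Agent.H537.EP.OfMJ

/-!
S4929, task 5309: `Good p r (PSU_n(q))` from `Good p r (SL_d(q^2))`, `2 d ≤ n`.
-/

set_option autoImplicit false
set_option linter.unusedSectionVars false

namespace Cfsg.Agent.H475.EP

open Matrix
open CoxeterSystem Cfsg.Agent.ChevalleyStructure.CoxeterGeom Cfsg.Agent.Tits.Roots Cfsg.Agent.Tits.Core
  Cfsg.Agent.Nodes.Reps Cfsg.Agent.Nodes.BNOf Cfsg.Agent.Nodes.StabComb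
  Cfsg.Agent.Nodes.RGDLib
open Cfsg.Agent.Nodes Cfsg.Agent.Nodes.TypeC Cfsg.Agent.Nodes.WittAll Cfsg.Agent.Nodes.WittU
open Cfsg.Agent.TitsThree Cfsg.Agent.TitsThree.Siegel Cfsg.Agent.TitsThree.WittFrame Cfsg.Agent.TitsThree.WittWeyl
  Cfsg.Agent.TitsThree.LineBorel Cfsg.Agent.TitsThree.FrameCN Cfsg.Agent.TitsThree.WBridge
  Cfsg.Agent.TitsThree.KSideU Cfsg.Agent.TitsThree.KSideUDesc Cfsg.Agent.TitsThree.SiegelGen
open Cfsg.Agent.H892.EP
open Cfsg.Agent.H53.HC (MJ)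
open Cfsg.Agent.H537.EP (good_of_MJ)

/-- the Levi subgroup `M_J` of a model of type `C` -/
theorem good_MJ_C {F : Type} [Field F] [Fintype F] {V : Type*} [AddCommGroup V] [Module F V] {H : HForm F V} {n k : ℕ}
    {Fr : Frame H (Fin n)} {K : Type*} [Group K] [Finite K] (M : Model Fr K) {W : Type*} [Group W]
    (cs : CoxeterSystem (CoxeterMatrix.B n) W) (hk : k + 2 ≤ n) {p r : ℕ} [Fact p.Prime] [Fact r.Prime]
    (hc : ∀ c : F, c * H.σ c = 1 → c ^ p = 1 → c = 1)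
    (hg : Good p r (SpecialLinearGroup (Fin (k + 2)) F)) :
    Good p r ↥(MJ cs (isCartan n) (WittModel.X M) (H156.SqBlk.JJ n (k + 2))) :=
  good_MJ (h := isCartan n) (rg := WittRoot.rg Fr) M.φ M.hX M.ker (Fin.castLE_injective hk)
    (fun i j hij => H156.SqBlk.hJ1C hk i j hij) (fun r hr => H156.SqBlk.hJ2C hk hr) hc hg

theorem eq_one_of_pow_pow {F : Type} [Field F] [Fintype F] {p : ℕ} [Fact p.Prime] (hp : ¬ p ∣ Fintype.card F - 1) {c : F}
    (h0 : c ≠ 0) (h : c ^ p = 1) : c = 1 := by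
  have h1 : c ^ (Fintype.card F - 1) = 1 := FiniteField.pow_card_sub_one_eq_one c h0
  have h2 : Nat.Coprime p (Fintype.card F - 1) := (Nat.Prime.coprime_iff_not_dvd Fact.out).2 hp
  have h3 : orderOf c ∣ Nat.gcd p (Fintype.card F - 1) :=
    Nat.dvd_gcd (orderOf_dvd_of_pow_eq_one h) (orderOf_dvd_of_pow_eq_one h1)
  rw [h2.gcd_eq_one, Nat.dvd_one] at h3
  exact orderOf_eq_one_iff.1 h3

section Unitary

variable {F : Type} [Field F] [Fintype F] {r : ℕ} [Fact r.Prime] [CharP F r] {p : ℕ} [Fact p.Prime]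

/-- [TA-PSU] -/
theorem good_psu {n q d : ℕ} (hq : Fintype.card F = q ^ 2) (hn : 4 ≤ n) (hd : 2 ≤ d) (hdn : 2 * d ≤ n)
    (hp : ¬ p ∣ q ^ 2 - 1) (h : Good p r (SpecialLinearGroup (Fin d) F)) : Good p r (PSU n F q) := by
  obtain ⟨k, rfl⟩ : ∃ k, d = k + 2 := ⟨d - 2, by omega⟩
  obtain ⟨m, hm⟩ : ∃ m, n = 2 * m ∨ n = 2 * m + 1 := ⟨n / 2, by omega⟩
  have hp' : ¬ p ∣ Fintype.card F - 1 := by rw [hq]; exact hp
  have key : ∀ (W : WFrame (PU hq n) m), Good p r (PSU n F q) := by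
    intro W
    obtain ⟨p0, hp0, -⟩ := exists_adm hq W
    have : Finite (CoxeterMatrix.B m).Group := TypeC.finite_W (CoxeterMatrix.B m).toCoxeterSystem
    refine good_of_MJ (rgdC_model (KInstU.model hq (by omega) W) (AmbT.of_amb (amb_U hq W) r) hp0
      (CoxeterMatrix.B m).toCoxeterSystem) (WittModel.G1_eq_top _ (by omega) _)
      (H156.SqBlk.JJ m (k + 2)) (good_MJ_C _ _ (by omega) (fun c hc h1 => ?_) h)
    exact eq_one_of_pow_pow hp' (left_ne_zero_of_mul_eq_one hc) h1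
  rcases hm with hm | hm
  · obtain ⟨W, -⟩ := exists_wframe_even (N := n) hq hm
    exact key W
  · obtain ⟨W, -⟩ := exists_wframe_odd (N := n) hq hm
    exact key W

end Unitary

end Cfsg.Agent.H475.EP
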