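import Mathlib

/-!
# The algebra `⟨u, A, B⟩`, `A² = B² = (AB)² = u`, `A = B = 1` where `u = 1` (helper475)
-/

set_option autoImplicit false
set_option linter.unusedSimpArgs false

universe u v

namespace Cfsg.Agent.H475.EP.Quat

section alg

variable {E : Type v} [Ring E]

structure Hf (u A B : E) : Prop where
  uu : u * u = 1
  AA : A * A = u
  BB : B * B = u
  BA : B * A = u * (A * B)
  uA : u * A = 1 + u - A
  uB : u * B = 1 + u - B

/-- `2x` -/
def X2 (u A B : E) : E := 1 + 1 + u + u + u - A - B - A * B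
/-- `2x⁻¹` -/
def Y2 (A B : E) : E := A + B + A * B - 1

namespace Hf

variable {u A B : E} (h : Hf u A B)
include h

theorem Au : A * u = 1 + u - A := by
  have : A * u = u * A := by
    nth_rewrite 1 [← h.AA]
    rw [← mul_assoc, h.AA]
  rw [this, h.uA]

theorem Bu : B * u = 1 + u - B := by
  have : B * u = u * B := by
    nth_rewrite 1 [← h.BB]
    rw [← mul_assoc, h.BB]
  rw [this, h.uB]

theorem uC : u * (A * B) = 1 + u - A * B := by
  rw [← mul_assoc, h.uA, sub_mul, add_mul, one_mul, h.uB]
  abel

theorem BA' : B * A = 1 + u - A * B := by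
  rw [h.BA, h.uC]

theorem Cu : A * B * u = 1 + u - A * B := by
  rw [mul_assoc, h.Bu, mul_sub, mul_add, mul_one, h.Au]
  abel

theorem AC : A * (A * B) = 1 + u - B := by
  rw [← mul_assoc, h.AA, h.uB]

theorem CB : A * B * B = 1 + u - A := by
  rw [mul_assoc, h.BB, h.Au]

theorem CA : A * B * A = B := by
  rw [mul_assoc, h.BA', mul_sub, mul_add, mul_one, h.Au, h.AC]
  abel

theorem BC : B * (A * B) = A := by
  rw [← mul_assoc, h.BA', sub_mul, add_mul, one_mul, h.uB, h.CB]
  abel

theorem CC : A * B * (A * B) = u := by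
  rw [← mul_assoc, h.CA, h.BB]

theorem XY : X2 u A B * Y2 A B = 4 := by
  have h1 := h.uA; have h2 := h.uB; have h3 := h.uC; have h4 := h.AA; have h5 := h.BB; have h6 := h.BA'
  have h7 := h.AC; have h8 := h.CB; have h9 := h.CA; have h10 := h.BC; have h11 := h.CC
  rw [X2, Y2]
  simp only [mul_add, add_mul, mul_sub, sub_mul, mul_one, one_mul, h1, h2, h3, h4, h5, h6, h7, h8, h9, h10, h11]
  have : (4 : E) = 1 + 1 + 1 + 1 := by norm_num
  rw [this]
  abel

theorem YX : Y2 A B * X2 u A B = 4 := by
  have h1 := h.Au; have h2 := h.Bu; have h3 := h.Cu; have h4 := h.AA; have h5 := h.BB; have h6 := h.BA'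
  have h7 := h.AC; have h8 := h.CB; have h9 := h.CA; have h10 := h.BC; have h11 := h.CC
  rw [X2, Y2]
  simp only [mul_add, add_mul, mul_sub, sub_mul, mul_one, one_mul, h1, h2, h3, h4, h5, h6, h7, h8, h9, h10, h11]
  have : (4 : E) = 1 + 1 + 1 + 1 := by norm_num
  rw [this]
  abel

theorem XX : X2 u A B * X2 u A B = Y2 A B + Y2 A B := by
  have h0 := h.uu; have h1 := h.Au; have h2 := h.Bu; have h3 := h.Cu; have h4 := h.AA; have h5 := h.BB; have h6 := h.BA'
  have h7 := h.AC; have h8 := h.CB; have h9 := h.CA; have h10 := h.BC; have h11 := h.CC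
  have h12 := h.uA; have h13 := h.uB; have h14 := h.uC
  rw [X2, Y2]
  simp only [mul_add, add_mul, mul_sub, sub_mul, mul_one, one_mul, h0, h1, h2, h3, h4, h5, h6, h7, h8, h9, h10, h11,
    h12, h13, h14]
  abel

theorem XA : X2 u A B * A = B * X2 u A B := by
  have h0 := h.uu; have h1 := h.Au; have h2 := h.Bu; have h3 := h.Cu; have h4 := h.AA; have h5 := h.BB; have h6 := h.BA'
  have h7 := h.AC; have h8 := h.CB; have h9 := h.CA; have h10 := h.BC; have h11 := h.CC
  have h12 := h.uA; have h13 := h.uB; have h14 := h.uC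
  rw [X2]
  simp only [mul_add, add_mul, mul_sub, sub_mul, mul_one, one_mul, h0, h1, h2, h3, h4, h5, h6, h7, h8, h9, h10, h11,
    h12, h13, h14]
  abel

theorem XB : X2 u A B * B = A * B * X2 u A B := by
  have h0 := h.uu; have h1 := h.Au; have h2 := h.Bu; have h3 := h.Cu; have h4 := h.AA; have h5 := h.BB; have h6 := h.BA'
  have h7 := h.AC; have h8 := h.CB; have h9 := h.CA; have h10 := h.BC; have h11 := h.CC
  have h12 := h.uA; have h13 := h.uB; have h14 := h.uC
  rw [X2]
  simp only [mul_add, add_mul, mul_sub, sub_mul, mul_one, one_mul, h0, h1, h2, h3, h4, h5, h6, h7, h8, h9, h10, h11,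
    h12, h13, h14]
  abel

theorem g_comm {g : E} (ga : g * A = A * g) (gb : g * B = B * g) : g * X2 u A B = X2 u A B * g := by
  have gu : g * u = u * g := by rw [← h.AA, ← mul_assoc, ga, mul_assoc, ga, mul_assoc]
  have gc : g * (A * B) = A * B * g := by rw [← mul_assoc, ga, mul_assoc, gb, mul_assoc]
  rw [X2]
  simp only [mul_add, add_mul, mul_sub, sub_mul, mul_one, one_mul, gu, ga, gb, gc]

theorem g_cyc {g : E} (ga : g * A = B * g) (gb : g * B = A * B * g) : g * X2 u A B = X2 u A B * g := by
  have gu : g * u = u * g := by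
    nth_rewrite 1 [← h.AA]
    rw [← mul_assoc, ga, mul_assoc, ga, ← mul_assoc, h.BB]
  have gc : g * (A * B) = A * g := by rw [← mul_assoc, ga, mul_assoc, gb, ← mul_assoc, h.BC]
  rw [X2]
  simp only [mul_add, add_mul, mul_sub, sub_mul, mul_one, one_mul, gu, ga, gb, gc]
  abel

theorem g_swap {g : E} (ga : g * A = B * g) (gb : g * B = A * g) : g * X2 u A B = Y2 A B * B * g := by
  have gu : g * u = u * g := by
    nth_rewrite 1 [← h.AA]
    rw [← mul_assoc, ga, mul_assoc, ga, ← mul_assoc, h.BB]
  have gc : g * (A * B) = (1 + u - A * B) * g := by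
    rw [← mul_assoc, ga, mul_assoc, gb, ← mul_assoc, h.BA']
  have h5 := h.BB; have h8 := h.CB
  rw [X2, Y2]
  simp only [mul_add, add_mul, mul_sub, sub_mul, mul_one, one_mul, gu, ga, gb, gc, h5, h8]
  abel

end Hf

end alg

section sgn

/-! ### signs -/

variable {R : Type v} [Ring R]

/-- equal up to sign -/
def pm (x y : R) : Prop := x = y ∨ x = -y

theorem pm.symm {x y : R} (h : pm x y) : pm y x := by
  rcases h with h | h
  · exact Or.inl h.symm
  · exact Or.inr (by rw [h, neg_neg])

theorem pm.trans {x y z : R} (h : pm x y) (h' : pm y z) : pm x z := by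
  rcases h with h | h <;> rcases h' with h' | h'
  · exact Or.inl (h.trans h')
  · exact Or.inr (h.trans h')
  · exact Or.inr (by rw [h, h'])
  · exact Or.inl (by rw [h, h', neg_neg])

theorem pm.mul {x y x' y' : R} (h : pm x y) (h' : pm x' y') : pm (x * x') (y * y') := by
  rcases h with h | h <;> rcases h' with h' | h'
  · exact Or.inl (by rw [h, h'])
  · exact Or.inr (by rw [h, h', mul_neg])
  · exact Or.inr (by rw [h, h', neg_mul])
  · exact Or.inl (by rw [h, h', neg_mul_neg])

theorem pm.sq {x y : R} (h : pm x y) : x * x = y * y := by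
  rcases h with h | h
  · rw [h]
  · rw [h, neg_mul_neg]

theorem pm.refl (x : R) : pm x x := Or.inl rfl

variable (hR : ∀ x : R, x = -x → x = 0)

theorem anti_pow {s t : R} (h : s * t = -(t * s)) (k : ℕ) : s ^ (2 * k + 1) * t = -(t * s ^ (2 * k + 1)) := by
  have h2 : s * s * t = t * (s * s) := by rw [mul_assoc, h, mul_neg, ← mul_assoc, h, neg_mul, neg_neg, mul_assoc]
  have h3 : Commute (s * s) t := h2
  have h4 : (s * s) ^ k * t = t * (s * s) ^ k := (h3.pow_left k).eq
  have h5 : s ^ (2 * k + 1) = (s * s) ^ k * s := by rw [pow_succ, pow_mul, pow_two]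
  rw [h5, mul_assoc, h, mul_neg, ← mul_assoc, h4, mul_assoc]

include hR in
theorem odd_comm [Nontrivial R] {s t : R} (ht : IsUnit t) {n : ℕ} (hn : Odd n) (hs : pm (s ^ n) 1)
    (h : pm (s * t) (t * s)) : s * t = t * s := by
  rcases h with h | h
  · exact h
  · exfalso
    obtain ⟨k, rfl⟩ := hn
    have h1 := anti_pow h k
    rcases hs with e | e
    · rw [e, one_mul, mul_one] at h1
      exact ht.ne_zero (hR _ h1)
    · rw [e, neg_mul, one_mul, mul_neg, mul_one, neg_neg] at h1
      exact ht.ne_zero (hR _ h1.symm)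

theorem conj_neg {f A a b : R} (hf : IsUnit f) (hA : f * A = A * f) (h : pm (f * a) (b * f)) (e : A * a = -(a * A)) :
    A * b = -(b * A) := by
  refine hf.mul_right_cancel ?_
  have h1 : A * (f * a) = -(f * a * A) := by rw [← mul_assoc, ← hA, mul_assoc, e, mul_neg, mul_assoc]
  rcases h with h | h
  · rw [h] at h1
    rw [mul_assoc, h1, neg_mul, mul_assoc, mul_assoc, hA]
  · rw [h] at h1
    have h2 : A * (b * f) = -(b * f * A) := by
      have := congrArg Neg.neg h1
      rw [mul_neg, neg_neg] at this
      rw [this, neg_mul, neg_neg]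
    rw [mul_assoc, h2, neg_mul, mul_assoc, mul_assoc, hA]

theorem conj_pos {f A a b : R} (hf : IsUnit f) (hA : f * A = A * f) (h : pm (f * a) (b * f)) (e : A * a = a * A) :
    A * b = b * A := by
  refine hf.mul_right_cancel ?_
  have h1 : A * (f * a) = f * a * A := by rw [← mul_assoc, ← hA, mul_assoc, e, mul_assoc]
  rcases h with h | h
  · rw [h] at h1
    rw [mul_assoc, h1, mul_assoc, mul_assoc, hA]
  · rw [h] at h1
    have h2 : A * (b * f) = b * f * A := by
      have := congrArg Neg.neg h1
      rw [mul_neg, neg_neg, neg_mul, neg_neg] at this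
      exact this
    rw [mul_assoc, h2, mul_assoc, mul_assoc, hA]

include hR in
/-- elements which commute up to sign, with the 3-cycle -/
theorem comm_exact [Nontrivial R] {f A a b : R} (hf : IsUnit f) (uA : IsUnit A) (ua : IsUnit a) (ub : IsUnit b)
    (hA : f * A = A * f) (h1 : pm (f * a) (b * f)) (h2 : pm (f * b) (a * b * f)) (h : pm (A * a) (a * A)) :
    A * a = a * A ∧ A * b = b * A := by
  have hpos : A * a = a * A := by
    rcases h with h | h
    · exact h
    · exfalso
      have h3 := conj_neg hf hA h1 h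
      have h4 := conj_neg hf hA h2 h3
      have h5 : A * (a * b) = a * b * A := by
        rw [← mul_assoc, h, neg_mul, mul_assoc, h3, mul_neg, neg_neg, mul_assoc]
      rw [h5] at h4
      exact ((ua.mul ub).mul uA).ne_zero (hR _ h4)
  exact ⟨hpos, conj_pos hf hA h1 hpos⟩

/-- the quaternion relations -/
theorem quat {a b w : R} (ua : IsUnit a) (ub : IsUnit b) (h1 : a * a = w) (h2 : b * b = w)
    (h3 : a * b * (a * b) = w) : a * b = w * (b * a) ∧ w * w = 1 := by
  have wa : w * a = a * w := by rw [← h1, mul_assoc]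
  have wb : w * b = b * w := by rw [← h2, mul_assoc]
  have hw : IsUnit w := h1 ▸ ua.mul ua
  have h4 : b * (a * b) = a := by
    have : w * (b * (a * b)) = w * a := by
      calc w * (b * (a * b)) = a * (a * b * (a * b)) := by rw [← h1]; simp only [mul_assoc]
        _ = w * a := by rw [h3, wa]
    exact hw.mul_left_cancel this
  have h5 : a * b = w * (b * a) := by
    calc a * b = b * (a * b) * b := by rw [h4]
      _ = b * a * (b * b) := by simp only [mul_assoc]
      _ = w * (b * a) := by rw [h2, mul_assoc, ← wa, ← mul_assoc, ← wb, mul_assoc]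
  refine ⟨h5, ?_⟩
  have h6 : w * w * a = 1 * a := by
    calc w * w * a = w * (w * a) := by rw [mul_assoc]
      _ = w * (b * b * a) := by rw [h2]
      _ = b * (w * (b * a)) := by rw [mul_assoc, ← mul_assoc w b, wb, mul_assoc]
      _ = 1 * a := by rw [← h5, h4, one_mul]
  exact ua.mul_right_cancel h6

end sgn

section form

/-! ### the isometry -/

variable {F : Type u} [Field F] {V : Type v} [AddCommGroup V] [Module F V]

theorem polar_X {P : V → V → F} (al : ∀ x y v, P (x + y) v = P x v + P y v) (ar : ∀ v x y, P v (x + y) = P v x + P v y)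
    (nl : ∀ x v, P (-x) v = -P x v) (nr : ∀ v x, P v (-x) = -P v x)
    {u A B : Module.End F V} (h : Hf u A B) (iu : ∀ v w, P (u v) (u w) = P v w) (iA : ∀ v w, P (A v) (A w) = P v w)
    (iB : ∀ v w, P (B v) (B w) = P v w) (v w : V) : P (X2 u A B v) (X2 u A B w) = 4 * P v w := by
  have adj : ∀ {f g : Module.End F V}, (∀ v w, P (f v) (f w) = P v w) → f * g = 1 → ∀ v w, P (f v) w = P v (g w) := by
    intro f g hf hfg v w
    have : f (g w) = w := by
      have := congrArg (fun k : Module.End F V => k w) hfg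
      simpa using this
    rw [← hf v (g w), this]
  have a1 := adj iu h.uu
  have a2 := adj iA (g := 1 + u - A) (by rw [mul_sub, mul_add, mul_one, h.Au, h.AA]; abel)
  have a3 := adj iB (g := 1 + u - B) (by rw [mul_sub, mul_add, mul_one, h.Bu, h.BB]; abel)
  have a4 := adj (f := A * B) (g := 1 + u - A * B) (fun v w => by
    rw [Module.End.mul_apply, Module.End.mul_apply, iA, iB]) (by rw [mul_sub, mul_add, mul_one, h.Cu, h.CC]; abel)
  have key : ∀ v w, P (X2 u A B v) w = P v (Y2 A B w) := by
    intro v w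
    have e1 : X2 u A B v = v + v + u v + u v + u v + -(A v) + -(B v) + -((A * B) v) := by
      simp only [X2, LinearMap.sub_apply, LinearMap.add_apply, LinearMap.neg_apply, Module.End.one_apply, sub_eq_add_neg]
    have e2 : Y2 A B w = A w + B w + (A * B) w + -w := by
      simp only [Y2, LinearMap.sub_apply, LinearMap.add_apply, LinearMap.neg_apply, Module.End.one_apply, sub_eq_add_neg]
    have e3 : ∀ g : Module.End F V, (1 + u - g) w = w + u w + -(g w) := by
      intro g
      simp only [LinearMap.sub_apply, LinearMap.add_apply, LinearMap.neg_apply, Module.End.one_apply, sub_eq_add_neg]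
    rw [e1, e2]
    simp only [al, ar, nl, nr, a1, a2, a3, a4, e3]
    ring
  rw [key]
  have e4 : Y2 A B (X2 u A B w) = w + w + (w + w) := by
    have := congrArg (fun k : Module.End F V => k w) h.YX
    have e5 : ((4 : Module.End F V)) w = w + w + (w + w) := by
      have : (4 : Module.End F V) = 1 + 1 + (1 + 1) := by norm_num
      rw [this]
      rfl
    rw [← e5]
    exact this
  rw [e4, ar, ar]
  ring

end form

end Cfsg.Agent.H475.EP.Quat
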